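import Cfsg.Agent.Lib.SzEight.Twisted
import Cfsg.Agent.Lib.Sz.Partition
import Mathlib.LinearAlgebra.Matrix.GeneralLinearGroup.Card

/-!
Element orders of `Sz(8) : 3` and fixed points on the module.
-/

set_option autoImplicit false

namespace Cfsg.Agent.SzEight

open Matrix Cfsg.Agent

/-- `fr` as an element of the group of field automorphisms. -/
def frA : RingAut K8 := fr

theorem orderOf_frA : orderOf frA = 3 := by
  have : Fact (Nat.Prime 3) := ⟨Nat.prime_three⟩
  refine orderOf_eq_prime ?_ ?_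
  · exact RingEquiv.ext fun x => (th_eq x).2.1
  · intro h
    exact absurd (congrArg (fun σ : RingAut K8 => σ (k 2)) h) (show fr (k 2) ≠ k 2 by decide +kernel)

theorem card_aut : Nat.card (RingAut K8) = 3 := SZ.card_ringAut card_K8

theorem entries_of_fixed {σ : RingAut K8} (hσ : σ ≠ 1) {x : K8} (h : σ x = x) : x = 0 ∨ x = 1 := by
  have : Fact (Nat.Prime 3) := ⟨Nat.prime_three⟩
  obtain ⟨n, rfl⟩ : ∃ n : ℕ, frA ^ n = σ := by
    have hcl : σ ∈ Subgroup.zpowers frA := by
      have ho := orderOf_frA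
      have : Finite (RingAut K8) := Finite.of_injective _ DFunLike.coe_injective
      have htop : Subgroup.zpowers frA = ⊤ := Subgroup.eq_top_of_card_eq _ (by
        rw [Nat.card_zpowers, ho, card_aut])
      rw [htop]; trivial
    have : Finite (RingAut K8) := Finite.of_injective _ DFunLike.coe_injective
    exact mem_powers_iff_mem_zpowers.2 hcl
  have hn : n % 3 ≠ 0 := fun h0 => hσ (by rw [← pow_mod_orderOf, orderOf_frA, h0, pow_zero])
  rw [← pow_mod_orderOf, orderOf_frA] at h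
  have : n % 3 = 1 ∨ n % 3 = 2 := by omega
  rcases this with e | e <;> rw [e] at h
  · exact (th_eq x).2.2 (by simpa [frA] using h)
  · refine (th_eq x).2.2 ?_
    have h2 : fr (fr x) = x := h
    have h3 := (th_eq x).2.1
    rw [h2] at h3
    exact h3

theorem pow_eq_one_of_conj {G : Type*} [Group G] (x g : G) (n : ℕ) (h : (x⁻¹ * g * x) ^ n = 1) :
    g ^ n = 1 := by
  rw [show x⁻¹ * g * x = MulAut.conj x⁻¹ g by simp, ← map_pow] at h
  exact (map_eq_one_iff _ (MulAut.conj x⁻¹).injective).1 h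

/-- `tMat` with explicit entries. -/
theorem tS_pow_four : ∀ a b : K8, SZ.tMat 1 a b * SZ.tMat 1 a b * (SZ.tMat 1 a b * SZ.tMat 1 a b) = 1 := by
  decide +kernel

theorem s8_cases (g : S8) (hg : g ≠ 1) :
    g ^ 4 = 1 ∨ g ∈ SZ.conjSet (SZ.hGrp card_K8) ∨ g ^ 13 = 1 ∨ g ^ 5 = 1 := by
  obtain ⟨Up, Um, hp, hm, -, h⟩ := SZ.partition le_rfl card_K8
  have hpow : ∀ (U : Subgroup S8) (n : ℕ), Nat.card U = n → g ∈ SZ.conjSet U → g ^ n = 1 := by
    intro U n hU hgU
    obtain ⟨-, x, hx⟩ := hgU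
    have h1 : (⟨_, hx⟩ : U) ^ n = 1 := hU ▸ pow_card_eq_one'
    have h2 : (x⁻¹ * g * x) ^ n = 1 := congrArg Subtype.val h1
    exact pow_eq_one_of_conj x g n h2
  rcases h g hg with h | h | h | h
  · left
    obtain ⟨-, x, ⟨⟨a, b⟩, hab⟩⟩ := h
    refine pow_eq_one_of_conj x g 4 ?_
    rw [← hab]
    refine mat_inj ?_
    show mat (SZ.tS card_K8 a b ^ 4) = mat 1
    simp only [pow_succ, pow_zero, one_mul, mat_mul, Matrix.mul_assoc]
    have := tS_pow_four a b
    rw [Matrix.mul_assoc] at this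
    exact this
  · exact Or.inr (Or.inl h)
  · exact Or.inr (Or.inr (Or.inl (hpow Up 13 hp.card h)))
  · exact Or.inr (Or.inr (Or.inr (hpow Um 5 hm.card h)))

theorem conjSet_hGrp_pow (g : S8) (h : g ∈ SZ.conjSet (SZ.hGrp card_K8)) : g ^ 7 = 1 := by
  obtain ⟨-, x, hx⟩ := h
  have hc : Nat.card (SZ.hGrp (m := 1) card_K8) = 7 := by rw [SZ.card_hGrp, card_K8]; norm_num
  have h1 : (⟨_, hx⟩ : SZ.hGrp (m := 1) card_K8) ^ 7 = 1 := hc ▸ pow_card_eq_one'
  have h2 : (x⁻¹ * g * x) ^ 7 = 1 := congrArg Subtype.val h1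
  exact pow_eq_one_of_conj x g 7 h2

theorem s8_prime_power (g : S8) : orderOf g ∣ 4 ∨ orderOf g ∣ 7 ∨ orderOf g ∣ 13 ∨ orderOf g ∣ 5 := by
  by_cases hg : g = 1
  · subst hg; simp
  rcases s8_cases g hg with h | h | h | h
  · exact Or.inl (orderOf_dvd_of_pow_eq_one h)
  · exact Or.inr (Or.inl (orderOf_dvd_of_pow_eq_one (conjSet_hGrp_pow g h)))
  · exact Or.inr (Or.inr (Or.inl (orderOf_dvd_of_pow_eq_one h)))
  · exact Or.inr (Or.inr (Or.inr (orderOf_dvd_of_pow_eq_one h)))

theorem trace_torus : ∀ u : K8, u ≠ 0 → u ≠ 1 →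
    (u + SZ.th 1 u / u + u / SZ.th 1 u + u⁻¹) ≠ 0 ∧ (u + SZ.th 1 u / u + u / SZ.th 1 u + u⁻¹) ≠ 1 := by
  unfold SZ.th
  decide +kernel

theorem not_orderOf_seven_of_fixed {g : S8} (h7 : orderOf g = 7)
    (h : ∀ i j, mat g i j = 0 ∨ mat g i j = 1) : False := by
  have hg : g ≠ 1 := fun e => by rw [e, orderOf_one] at h7; norm_num at h7
  rcases s8_cases g hg with h' | ⟨-, x, hx⟩ | h' | h'
  · have := orderOf_dvd_of_pow_eq_one h'; rw [h7] at this; norm_num at this
  · obtain ⟨u, hu⟩ := hx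
    have hu1 : (u : K8) ≠ 1 := fun e => hg (by
      have h1 : x⁻¹ * g * x = 1 := by
        rw [← hu, show u = 1 from Units.ext e, map_one]
      calc g = x * (x⁻¹ * g * x) * x⁻¹ := by group
        _ = 1 := by rw [h1]; group)
    have htr : (mat g).trace = (u : K8) + SZ.th 1 (u : K8) / u + (u : K8) / SZ.th 1 (u : K8) + (u : K8)⁻¹ := by
      have e : mat (x⁻¹ * g * x) = Matrix.diagonal (SZ.hVec 1 u) := by rw [← hu]; rfl
      have e2 : (mat (x⁻¹ * g * x)).trace = (mat g).trace := by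
        rw [mat_mul, mat_mul, Matrix.trace_mul_cycle, ← mat_mul, mul_inv_cancel, mat_one, Matrix.one_mul]
      rw [← e2, e]
      simp [Matrix.trace, Fin.sum_univ_four, SZ.hVec]
    have hcases : ∀ a b : K8, (a = 0 ∨ a = 1) → (b = 0 ∨ b = 1) → a + b = 0 ∨ a + b = 1 := by
      decide +kernel
    have hin : (mat g).trace = 0 ∨ (mat g).trace = 1 := by
      simp only [Matrix.trace, Fin.sum_univ_four, Matrix.diag_apply]
      exact hcases _ _ (hcases _ _ (hcases _ _ (h 0 0) (h 1 1)) (h 2 2)) (h 3 3)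
    obtain ⟨t0, t1⟩ := trace_torus (u : K8) u.ne_zero hu1
    rw [htr] at hin
    exact hin.elim t0 t1
  · have := orderOf_dvd_of_pow_eq_one h'; rw [h7] at this; norm_num at this
  · have := orderOf_dvd_of_pow_eq_one h'; rw [h7] at this; norm_num at this

theorem not_orderOf_thirteen_of_fixed {g : S8} (h13 : orderOf g = 13)
    (h : ∀ i j, mat g i j = 0 ∨ mat g i j = 1) : False := by
  let ι : ZMod 2 →+* K8 := ZMod.castHom dvd_rfl K8
  let M : Matrix (Fin 4) (Fin 4) (ZMod 2) := Matrix.of fun i j => if mat g i j = 1 then 1 else 0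
  have hM : M.map ι = mat g := by
    ext i j
    simp only [M, Matrix.map_apply, Matrix.of_apply]
    rcases h i j with e | e <;> simp [e]
  have hinj : Function.Injective ((ι.mapMatrix : Matrix (Fin 4) (Fin 4) (ZMod 2) →+* _)) :=
    fun A B e => Matrix.map_injective ι.injective e
  let φ : S8 →* Matrix (Fin 4) (Fin 4) K8 :=
    { toFun := mat, map_one' := mat_one, map_mul' := mat_mul }
  have ho : orderOf M = 13 := by
    rw [← h13, ← orderOf_injective φ (fun a b e => mat_inj e) g,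
      ← orderOf_injective (ι.mapMatrix : Matrix (Fin 4) (Fin 4) (ZMod 2) →+* _).toMonoidHom hinj M]
    exact congrArg orderOf hM
  have hu : IsUnit M := IsUnit.of_pow_eq_one (pow_orderOf_eq_one M) (by rw [ho]; norm_num)
  have hd : orderOf hu.unit ∣ Nat.card (GL (Fin 4) (ZMod 2)) := orderOf_dvd_natCard _
  rw [← orderOf_units, IsUnit.unit_spec, ho, Matrix.card_GL_field] at hd
  norm_num [Fin.prod_univ_four, ZMod.card] at hd

theorem right_eq_one_of_coprime (x : X) (h : ¬ 3 ∣ orderOf x) : x.right = 1 := by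
  have h1 : orderOf x.right ∣ orderOf x := by
    simpa using orderOf_map_dvd SemidirectProduct.rightHom x
  have h2 : orderOf x.right ∣ 3 := card_aut ▸ orderOf_dvd_natCard x.right
  rcases (Nat.dvd_prime Nat.prime_three).1 h2 with e | e
  · exact orderOf_eq_one_iff.1 e
  · exact absurd (e ▸ h1) h

theorem exists_left (x : X) (h : ¬ 3 ∣ orderOf x) :
    ∃ g : S8, x = SemidirectProduct.inl g ∧ orderOf g = orderOf x := by
  have hx : x = SemidirectProduct.inl x.left := by
    ext <;> simp [right_eq_one_of_coprime x h]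
  exact ⟨x.left, hx, by
    conv_rhs => rw [hx, orderOf_injective _ SemidirectProduct.inl_injective]⟩

theorem orderOf_two_primes_s8 (g : S8) {p q : ℕ} (hp : p.Prime) (hq : q.Prime) (hpq : p ≠ q) :
    orderOf g ≠ p * q := by
  intro h
  have key : ∀ r k : ℕ, r.Prime → orderOf g ∣ r ^ k → False := fun r k hr hd => by
    rw [h] at hd
    exact hpq (((Nat.prime_dvd_prime_iff_eq hp hr).1
      (hp.dvd_of_dvd_pow ((dvd_mul_right p q).trans hd))).trans
      ((Nat.prime_dvd_prime_iff_eq hq hr).1 (hq.dvd_of_dvd_pow ((dvd_mul_left q p).trans hd))).symm)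
  rcases s8_prime_power g with e | e | e | e
  · exact key 2 2 Nat.prime_two e
  · exact key 7 1 (by norm_num) e
  · exact key 13 1 (by norm_num) e
  · exact key 5 1 (by norm_num) e

theorem dvd_card_X_cases {p : ℕ} (hp : p.Prime) (h : p ∣ 87360) :
    p = 2 ∨ p = 3 ∨ p = 5 ∨ p = 7 ∨ p = 13 := by
  rw [show (87360 : ℕ) = 2 ^ 6 * (3 * (5 * (7 * 13))) by norm_num] at h
  rcases hp.dvd_mul.1 h with h | h
  · exact Or.inl ((Nat.prime_dvd_prime_iff_eq hp Nat.prime_two).1 (hp.dvd_of_dvd_pow h))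
  rcases hp.dvd_mul.1 h with h | h
  · exact Or.inr (Or.inl ((Nat.prime_dvd_prime_iff_eq hp Nat.prime_three).1 h))
  rcases hp.dvd_mul.1 h with h | h
  · exact Or.inr (Or.inr (Or.inl ((Nat.prime_dvd_prime_iff_eq hp (by norm_num)).1 h)))
  rcases hp.dvd_mul.1 h with h | h
  · exact Or.inr (Or.inr (Or.inr (Or.inl ((Nat.prime_dvd_prime_iff_eq hp (by norm_num)).1 h))))
  · exact Or.inr (Or.inr (Or.inr (Or.inr ((Nat.prime_dvd_prime_iff_eq hp (by norm_num)).1 h))))

theorem not_three_mul (p : ℕ) (hp : p = 7 ∨ p = 13) (x : X) : orderOf x ≠ 3 * p := by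
  intro hx
  have : Fact (Nat.Prime 3) := ⟨Nat.prime_three⟩
  have hp0 : p ≠ 0 := by omega
  have hz : orderOf (x ^ p) = 3 := by
    rw [orderOf_pow' x hp0, hx, Nat.gcd_mul_left_left, Nat.mul_div_cancel _ (by omega)]
  have hy : orderOf (x ^ 3) = p := by
    rw [orderOf_pow' x (by norm_num), hx, Nat.gcd_mul_right_left, Nat.mul_div_cancel_left _ (by norm_num)]
  obtain ⟨g, hg, hgo⟩ := exists_left (x ^ 3) (by rw [hy]; omega)
  rw [hy] at hgo
  -- Sylow 3-subgroups have order 3
  have hsyl : (87360 : ℕ).factorization 3 = 1 := by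
    rw [show (87360 : ℕ) = 3 ^ 1 * 29120 by norm_num,
      Nat.factorization_mul (by norm_num) (by norm_num), Finsupp.add_apply,
      Nat.Prime.factorization_pow Nat.prime_three, Finsupp.single_eq_same,
      Nat.factorization_eq_zero_of_not_dvd (by norm_num)]
  let S : Sylow 3 X := Sylow.ofCard (Subgroup.zpowers (x ^ p))
    (by rw [Nat.card_zpowers, hz, card_X, hsyl, pow_one])
  let T : Sylow 3 X := Sylow.ofCard (SemidirectProduct.inr : RingAut K8 →* X).range (by
    rw [Nat.card_congr (MonoidHom.ofInjective SemidirectProduct.inr_injective).toEquiv.symm, card_aut,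
      card_X, hsyl, pow_one])
  obtain ⟨c, hc⟩ := MulAction.exists_smul_eq X S T
  have hmem : c * x ^ p * c⁻¹ ∈ (T : Subgroup X) := by
    rw [← hc]
    exact ⟨x ^ p, Subgroup.mem_zpowers _, rfl⟩
  obtain ⟨σ, hσ⟩ : ∃ σ, (SemidirectProduct.inr σ : X) = c * x ^ p * c⁻¹ := hmem
  have hσ1 : σ ≠ 1 := by
    intro e
    rw [e, map_one, eq_comm, mul_inv_eq_one, mul_eq_left] at hσ
    rw [hσ, orderOf_one] at hz
    norm_num at hz
  have hyo : orderOf (c * x ^ 3 * c⁻¹) = p := by
    rw [← MulAut.conj_apply, (MulAut.conj c).orderOf_eq, hy]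
  obtain ⟨g', hg', hgo'⟩ := exists_left (c * x ^ 3 * c⁻¹) (by rw [hyo]; omega)
  rw [hyo] at hgo'
  have hcomm : SemidirectProduct.inr σ * SemidirectProduct.inl g' =
      (SemidirectProduct.inl g' * SemidirectProduct.inr σ : X) := by
    rw [hσ, ← hg']
    have : Commute (x ^ p) (x ^ 3) := (Commute.refl x).pow_pow _ _
    calc c * x ^ p * c⁻¹ * (c * x ^ 3 * c⁻¹) = c * (x ^ p * x ^ 3) * c⁻¹ := by group
      _ = c * (x ^ 3 * x ^ p) * c⁻¹ := by rw [this.eq]
      _ = _ := by group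
  have hfix : act σ g' = g' := by
    have := congrArg SemidirectProduct.left hcomm
    simpa using this
  have hent : ∀ i j, mat g' i j = 0 ∨ mat g' i j = 1 := fun i j =>
    entries_of_fixed hσ1 (congrFun (congrFun (congrArg mat hfix) i) j)
  rcases hp with rfl | rfl
  · exact not_orderOf_seven_of_fixed hgo' hent
  · exact not_orderOf_thirteen_of_fixed hgo' hent

/-- The only adjacencies in `Sz(8) : 3` among odd primes are `3 - 5`. -/
theorem no_odd_edge {p q : ℕ} (hp : p.Prime) (hq : q.Prime) (hpq : p ≠ q)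
    (hp2 : p ≠ 2) (hq2 : q ≠ 2) (h : ∃ x : X, orderOf x = p * q) :
    (p = 3 ∧ q = 5) ∨ (p = 5 ∧ q = 3) := by
  obtain ⟨x, hx⟩ := h
  have hd : p * q ∣ 87360 := hx ▸ card_X ▸ orderOf_dvd_natCard x
  have h1 := dvd_card_X_cases hp ((dvd_mul_right p q).trans hd)
  have h2 := dvd_card_X_cases hq ((dvd_mul_left q p).trans hd)
  by_cases h3 : 3 ∣ orderOf x
  · rw [hx] at h3
    rcases Nat.prime_three.dvd_mul.1 h3 with e | e
    · obtain rfl := ((Nat.prime_dvd_prime_iff_eq Nat.prime_three hp).1 e).symm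
      rcases h2 with rfl | rfl | rfl | rfl | rfl <;> first | omega | exact absurd hx (not_three_mul _ (by norm_num) x)
    · obtain rfl := ((Nat.prime_dvd_prime_iff_eq Nat.prime_three hq).1 e).symm
      rw [mul_comm] at hx
      rcases h1 with rfl | rfl | rfl | rfl | rfl <;> first | omega | exact absurd hx (not_three_mul _ (by norm_num) x)
  · obtain ⟨g, -, hg⟩ := exists_left x h3
    exact absurd (hg.trans hx) (orderOf_two_primes_s8 g hp hq hpq)

/-- An element of order 13. -/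
def g13 : S8 := SZ.tS card_K8 0 (k 3) * SZ.wS card_K8

/-- An element of order 5 with entries in the prime field. -/
def g5 : S8 := SZ.tS card_K8 0 1 * SZ.wS card_K8

theorem check_g13 : ∀ i j : Fin 4, ∀ s : K8,
    (∑ n ∈ Finset.range 13, mat g13 ^ n * Matrix.single i j s * ((mat g13).map fr ^ n)ᵀ) = 0 := by
  decide +kernel

theorem orders_explicit : mat g13 ^ 13 = 1 ∧ mat g13 ≠ 1 ∧ mat g5 ^ 5 = 1 ∧ mat g5 ≠ 1 ∧
    (mat g5).map fr = mat g5 ∧ mat (SZ.wS card_K8) * mat (SZ.wS card_K8) = 1 ∧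
    mat (SZ.wS card_K8) ≠ 1 ∧ (mat (SZ.wS card_K8)).map fr = mat (SZ.wS card_K8) ∧
    mat g5 * mat (SZ.wS card_K8) * ((mat g5).map fr)ᵀ = mat (SZ.wS card_K8) := by
  decide +kernel

theorem mat_pow (g : S8) : ∀ n : ℕ, mat (g ^ n) = mat g ^ n
  | 0 => mat_one
  | n + 1 => by rw [pow_succ, mat_mul, mat_pow g n, pow_succ]

theorem g13_fpf (A : V8) (h : (SemidirectProduct.inl g13 : X) • A = A) : A = 0 := by
  rw [inl_smul] at h
  have hn : ∀ n : ℕ, mat g13 ^ n * A * ((mat g13).map fr ^ n)ᵀ = A := fun n => by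
    induction n with
    | zero => simp
    | succ n ih =>
      conv_rhs => rw [← ih, ← h]
      rw [pow_succ, pow_succ, transpose_mul]
      simp only [Matrix.mul_assoc]
  have h13 : (∑ n ∈ Finset.range 13, mat g13 ^ n * A * ((mat g13).map fr ^ n)ᵀ) = 0 := by
    conv_lhs => rw [Matrix.matrix_eq_sum_single A]
    simp only [Matrix.mul_sum, Matrix.sum_mul]
    rw [Finset.sum_comm]
    refine Finset.sum_eq_zero fun i _ => ?_
    rw [Finset.sum_comm]
    exact Finset.sum_eq_zero fun j _ => check_g13 i j (A i j)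
  simp only [hn, Finset.sum_const, Finset.card_range] at h13
  rwa [show (13 : ℕ) • A = A by
    rw [show (13 : ℕ) = 6 * 2 + 1 from rfl, add_smul, one_smul, mul_comm, mul_smul, two_nsmul_V8,
      zero_add]] at h13

theorem orderOf_g13 : orderOf g13 = 13 := by
  have : Fact (Nat.Prime 13) := ⟨by norm_num⟩
  refine orderOf_eq_prime (mat_inj ?_) fun e => orders_explicit.2.1 (by rw [e, mat_one])
  rw [mat_pow, orders_explicit.1, mat_one]

theorem thirteen_fpf (x : X) (hx : orderOf x = 13) (A : V8) (h : x • A = A) : A = 0 := by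
  have : Fact (Nat.Prime 13) := ⟨by norm_num⟩
  obtain ⟨g, rfl, hg⟩ := exists_left x (by rw [hx]; norm_num)
  rw [hx] at hg
  obtain ⟨Up, Um, hp, hm, -, hpart⟩ := SZ.partition le_rfl card_K8
  have inUp : ∀ y : S8, orderOf y = 13 → ∃ a, a⁻¹ * y * a ∈ Up := by
    intro y hy
    rcases hpart y (fun e => by rw [e, orderOf_one] at hy; norm_num at hy) with ⟨-, a, ha⟩ | hh | ⟨-, a, ha⟩ | ⟨-, a, ha⟩
    · have := (Subgroup.orderOf_dvd_natCard _ ha)
      rw [SZ.card_uGrp, card_K8, show a⁻¹ * y * a = MulAut.conj a⁻¹ y by simp, MulEquiv.orderOf_eq, hy] at this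
      norm_num at this
    · have := orderOf_dvd_of_pow_eq_one (conjSet_hGrp_pow y hh)
      rw [hy] at this; norm_num at this
    · exact ⟨a, ha⟩
    · have := (Subgroup.orderOf_dvd_natCard _ ha)
      rw [hm.card, show a⁻¹ * y * a = MulAut.conj a⁻¹ y by simp, MulEquiv.orderOf_eq, hy] at this
      norm_num at this
  obtain ⟨a, ha⟩ := inUp g hg
  obtain ⟨b, hb⟩ := inUp g13 orderOf_g13
  have hcard : Nat.card Up = 13 := hp.card
  have ho : orderOf (a⁻¹ * g * a) = 13 := by
    rw [show a⁻¹ * g * a = MulAut.conj a⁻¹ g by simp, MulEquiv.orderOf_eq, hg]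
  have hz : Subgroup.zpowers (a⁻¹ * g * a) = Up :=
    Subgroup.eq_of_le_of_card_ge (Subgroup.zpowers_le.2 ha) (by rw [Nat.card_zpowers, ho, hcard])
  rw [← hz] at hb
  obtain ⟨n, hn⟩ := hb
  have hfix : ∀ y : X, y ∈ Subgroup.zpowers (SemidirectProduct.inl g : X) → y • A = A := fun y hy =>
    (Subgroup.zpowers_le.2 (MulAction.mem_stabilizer_iff.2 h) hy : y ∈ MulAction.stabilizer X A)
  have hg13 : (SemidirectProduct.inl g13 : X) =
      SemidirectProduct.inl (b * a⁻¹) * SemidirectProduct.inl g ^ n *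
        (SemidirectProduct.inl (b * a⁻¹))⁻¹ := by
    rw [← map_zpow, ← map_inv, ← map_mul, ← map_mul]
    congr 1
    have hn' : (a⁻¹ * g * a) ^ n = b⁻¹ * g13 * b := hn
    have e : (a⁻¹ * g * a) ^ n = a⁻¹ * g ^ n * a := by
      rw [show a⁻¹ * g * a = MulAut.conj a⁻¹ g by simp, ← map_zpow]
      simp
    rw [e] at hn'
    calc g13 = b * (b⁻¹ * g13 * b) * b⁻¹ := by group
      _ = _ := by rw [← hn']; group
  have := g13_fpf ((SemidirectProduct.inl (b * a⁻¹) : X) • A) (by
    rw [hg13, mul_smul, mul_smul, inv_smul_smul, hfix _ (Subgroup.zpow_mem_zpowers _ _)])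
  rwa [smul_eq_zero_iff_eq] at this

/-- Witnesses of the adjacencies. -/
theorem edges : (∃ x : X, orderOf x = 3 * 2) ∧ (∃ x : X, orderOf x = 3 * 5) ∧
    (∃ x : X, orderOf x = 5 ∧ ∃ A : V8, A ≠ 0 ∧ x • A = A) ∧
    (∃ x : X, orderOf x = 7 ∧ ∃ A : V8, A ≠ 0 ∧ x • A = A) ∧
    ∀ p : ℕ, p ∈ [2, 3, 5, 7, 13] → p ∣ Nat.card X := by
  obtain ⟨-, -, h5, h5', h5f, hw, hw', hwf, hJ⟩ := orders_explicit
  have : Fact (Nat.Prime 5) := ⟨by norm_num⟩
  have : Fact (Nat.Prime 7) := ⟨by norm_num⟩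
  have : Fact (Nat.Prime 2) := ⟨Nat.prime_two⟩
  have o5 : orderOf g5 = 5 :=
    orderOf_eq_prime (mat_inj (by rw [mat_pow, h5, mat_one])) fun e => h5' (by rw [e, mat_one])
  have o2 : orderOf (SZ.wS card_K8 : S8) = 2 :=
    orderOf_eq_prime (mat_inj (by rw [mat_pow, pow_two, hw, mat_one])) fun e => hw' (by rw [e, mat_one])
  have mk : ∀ (g : S8) (n : ℕ), orderOf g = n → Nat.Coprime 3 n → (mat g).map fr = mat g →
      ∃ x : X, orderOf x = 3 * n := by
    intro g n hn hco hf
    refine ⟨SemidirectProduct.inr frA * SemidirectProduct.inl g, ?_⟩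
    have hc : Commute (SemidirectProduct.inr frA : X) (SemidirectProduct.inl g) := by
      have : act frA g = g := mat_inj (by rw [mat_act]; exact hf)
      have h2 := SemidirectProduct.inl_aut frA g (φ := act)
      rw [this, map_inv] at h2
      exact (mul_inv_eq_iff_eq_mul.1 h2.symm)
    rw [hc.orderOf_mul_eq_mul_orderOf_of_coprime, orderOf_injective _ SemidirectProduct.inr_injective,
      orderOf_injective _ SemidirectProduct.inl_injective, orderOf_frA, hn]
    rwa [orderOf_injective _ SemidirectProduct.inr_injective,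
      orderOf_injective _ SemidirectProduct.inl_injective, orderOf_frA, hn]
  refine ⟨mk _ 2 o2 (by norm_num) hwf, mk _ 5 o5 (by norm_num) h5f, ?_, ?_, ?_⟩
  · refine ⟨SemidirectProduct.inl g5, by rw [orderOf_injective _ SemidirectProduct.inl_injective, o5],
      mat (SZ.wS card_K8), fun e => absurd (congrFun (congrFun e 0) 3) (by decide +kernel), ?_⟩
    rw [inl_smul, hJ]
  · let u : K8ˣ := ⟨k 2, (k 2)⁻¹, by decide +kernel, by decide +kernel⟩
    have h7 : mat (SZ.hS card_K8 u) ^ 7 = 1 ∧ mat (SZ.hS card_K8 u) ≠ 1 ∧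
        mat (SZ.hS card_K8 u) * Matrix.single 0 1 1 * ((mat (SZ.hS card_K8 u)).map fr)ᵀ =
          Matrix.single 0 1 1 ∧ (Matrix.single 0 1 1 : V8) ≠ 0 := by
      decide +kernel
    refine ⟨SemidirectProduct.inl (SZ.hS card_K8 u), ?_, Matrix.single 0 1 1, h7.2.2.2, ?_⟩
    · rw [orderOf_injective _ SemidirectProduct.inl_injective]
      exact orderOf_eq_prime (mat_inj (by rw [mat_pow, h7.1, mat_one])) fun e => h7.2.1 (by rw [e, mat_one])
    · rw [inl_smul, h7.2.2.1]
  · intro p hp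
    rw [card_X]
    simp only [List.mem_cons, List.not_mem_nil, or_false] at hp
    rcases hp with rfl | rfl | rfl | rfl | rfl <;> norm_num

end Cfsg.Agent.SzEight
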