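import Mathlib

/-!
The field with eight elements by packed tables, fast in the kernel.
-/

set_option autoImplicit false

namespace Cfsg.Agent.SzEight

/-- Packed multiplication table. -/
def mulTab : ℕ := 2821848294356612419217921029917578219971947684264937521152
/-- Packed inversion table. -/
def invTab : ℕ := 9272648
def mulN (a b : ℕ) : ℕ := (mulTab >>> (3 * (8 * a + b))) % 8

/-- The field with eight elements. -/
structure K8 where
  /-- The code of an element. -/
  v : Fin 8
deriving DecidableEq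

/-- `K8` as `Fin 8`. -/
def equivFin : K8 ≃ Fin 8 := ⟨K8.v, K8.mk, fun _ => rfl, fun _ => rfl⟩

instance fintypeK8 : Fintype K8 := Fintype.ofEquiv _ equivFin.symm
instance addK8 : Add K8 := ⟨fun a b => ⟨Fin.ofNat 8 ((a.v : ℕ) ^^^ b.v)⟩⟩
instance mulK8 : Mul K8 := ⟨fun a b => ⟨Fin.ofNat 8 (mulN a.v b.v)⟩⟩
instance negK8 : Neg K8 := ⟨id⟩
instance zeroK8 : Zero K8 := ⟨⟨0⟩⟩
instance oneK8 : One K8 := ⟨⟨1⟩⟩
instance invK8 : Inv K8 := ⟨fun a => ⟨Fin.ofNat 8 ((invTab >>> (3 * (a.v : ℕ))) % 8)⟩⟩

theorem k8_assoc : ∀ a b c : K8, a + b + c = a + (b + c) ∧ a * b * c = a * (b * c) ∧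
    a * (b + c) = a * b + a * c := by decide +kernel

theorem k8_comm : ∀ a b : K8, a * b = b * a ∧ a + b = b + a := by decide +kernel

theorem k8_unit : ∀ a : K8, 0 + a = a ∧ -a + a = 0 ∧ 1 * a = a ∧ (a ≠ 0 → a * a⁻¹ = 1) := by
  decide +kernel

instance fieldK8 : Field K8 :=
  Field.ofMinimalAxioms K8
    (fun a b c => (k8_assoc a b c).1)
    (fun a => (k8_unit a).1)
    (fun a => (k8_unit a).2.1)
    (fun a b c => (k8_assoc a b c).2.1)
    (fun a b => (k8_comm a b).1)
    (fun a => (k8_unit a).2.2.1)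
    (fun a ha => (k8_unit a).2.2.2 ha)
    (by decide)
    (fun a b c => (k8_assoc a b c).2.2)
    ⟨0, 1, by decide⟩

theorem card_K8 : Fintype.card K8 = 2 ^ (2 * 1 + 1) := by
  rw [Fintype.card_congr equivFin, Fintype.card_fin]
  rfl

theorem two_eq_zero : (2 : K8) = 0 := by
  rw [← one_add_one_eq_two]
  decide +kernel

instance charTwoK8 : CharP K8 2 :=
  ringChar.of_eq ((CharP.ringChar_of_prime_eq_zero Nat.prime_two (by exact_mod_cast two_eq_zero)))

/-- The Frobenius automorphism. -/
def fr : K8 ≃+* K8 where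
  toFun x := x * x
  invFun x := x * x * (x * x)
  left_inv := by unfold Function.LeftInverse; decide +kernel
  right_inv := by unfold Function.RightInverse Function.LeftInverse; decide +kernel
  map_mul' := by decide +kernel
  map_add' := by decide +kernel

/-- The element with the given code. -/
def k (a : Fin 8) : K8 := ⟨a⟩

theorem th_eq : ∀ x : K8, fr (fr x) = (x * x) * (x * x) ∧ fr (fr (fr x)) = x ∧ (fr x = x → x = 0 ∨ x = 1) := by
  decide +kernel

end Cfsg.Agent.SzEight
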