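import Cfsg.Agent.Lib.SzEight.Field
import Cfsg.Agent.Lib.Sz.Aut

/-!
`Sz(8) : 3` acting semilinearly on `4 × 4` matrices over the field with eight elements by
`(g, σ) • A = g (σ A) (g^(2))ᵀ`.
-/

set_option autoImplicit false

namespace Cfsg.Agent.SzEight

open Matrix

/-- The Suzuki group over `K8`. -/
abbrev S8 := Cfsg.Sz K8 1

/-- The field automorphisms acting on it. -/
def act : RingAut K8 →* MulAut S8 := Cfsg.Agent.SZ.fieldAut le_rfl card_K8

/-- `Sz(8) : 3`. -/
abbrev X := S8 ⋊[act] RingAut K8

/-- The matrix of an element. -/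
def mat (g : S8) : Matrix (Fin 4) (Fin 4) K8 := (g : Matrix.SpecialLinearGroup (Fin 4) K8).1

theorem mat_mul (g h : S8) : mat (g * h) = mat g * mat h := rfl

theorem mat_one : mat (1 : S8) = 1 := rfl

theorem mat_inj {g h : S8} (e : mat g = mat h) : g = h := Subtype.ext (Subtype.ext e)

theorem mat_act (σ : RingAut K8) (g : S8) : mat (act σ g) = (mat g).map σ := rfl

/-- The module. -/
abbrev V8 := Matrix (Fin 4) (Fin 4) K8

theorem map_fr_comm (σ : RingAut K8) (A : V8) : (A.map σ).map fr = (A.map fr).map σ := by
  ext i j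
  simp only [Matrix.map_apply]
  show σ (A i j) * σ (A i j) = σ (A i j * A i j)
  rw [map_mul]

/-- The semilinear action. -/
def act8 (x : X) (A : V8) : V8 := mat x.left * A.map x.right * ((mat x.left).map fr)ᵀ

instance actX : DistribMulAction X V8 where
  smul := act8
  one_smul A := by
    show mat 1 * A.map (1 : RingAut K8) * ((mat 1).map fr)ᵀ = A
    rw [mat_one, Matrix.one_mul, Matrix.map_one _ (map_zero fr) (map_one fr), transpose_one,
      Matrix.mul_one]
    rfl
  mul_smul x y A := by
    show mat (x.left * act x.right y.left) * A.map (x.right * y.right) *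
        ((mat (x.left * act x.right y.left)).map fr)ᵀ =
      mat x.left * (mat y.left * A.map y.right * ((mat y.left).map fr)ᵀ).map x.right *
        ((mat x.left).map fr)ᵀ
    rw [mat_mul, mat_act, Matrix.map_mul, Matrix.map_mul, Matrix.map_mul, transpose_mul,
      map_fr_comm, transpose_map, Matrix.map_map]
    show _ * (A.map (⇑x.right ∘ ⇑y.right)) * _ = _
    simp only [Matrix.mul_assoc, Matrix.map_map]
  smul_zero x := by
    show mat x.left * (0 : V8).map x.right * _ = 0
    rw [Matrix.map_zero _ (map_zero x.right), Matrix.mul_zero, Matrix.zero_mul]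
  smul_add x A B := by
    show mat x.left * (A + B).map x.right * _ = _
    rw [Matrix.map_add _ (map_add x.right), Matrix.mul_add, Matrix.add_mul]
    rfl

theorem inl_smul (g : S8) (A : V8) :
    (SemidirectProduct.inl g : X) • A = mat g * A * ((mat g).map fr)ᵀ := by
  show mat g * A.map (1 : RingAut K8) * _ = _
  rfl

theorem inr_smul (σ : RingAut K8) (A : V8) : (SemidirectProduct.inr σ : X) • A = A.map σ := by
  show mat 1 * A.map σ * ((mat 1).map fr)ᵀ = _
  rw [mat_one, Matrix.one_mul, Matrix.map_one _ (map_zero fr) (map_one fr), transpose_one,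
    Matrix.mul_one]

theorem two_nsmul_V8 (A : V8) : 2 • A = 0 := by
  ext i j
  rw [Matrix.smul_apply, nsmul_eq_mul, Nat.cast_ofNat, two_eq_zero, zero_mul, Matrix.zero_apply]

theorem card_X : Nat.card X = 87360 := by
  rw [SemidirectProduct.card, Cfsg.Agent.SZ.card_Sz le_rfl card_K8, Cfsg.Agent.SZ.card_ringAut card_K8,
    card_K8]
  norm_num

instance finiteX : Finite X := Nat.finite_of_card_ne_zero (by rw [card_X]; norm_num)

end Cfsg.Agent.SzEight
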